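import Cfsg.Agent.Lib.RuLattice.Data
import Cfsg.Prelude.Def_Spor_Ru

/-!
# The rank 56 lattice of the Rudvalis group modulo 4

The lattice lies in the span of forty vectors and `4 ℤ^56`; this span is self-orthogonal modulo 4
and all its norms are divisible by 8.
-/

set_option autoImplicit false

namespace Cfsg.Agent.RuLattice

open Cfsg.Spor Finset

/-- The 56 real coordinates. -/
def eqv : Fin 56 ≃ RuIdx × Fin 2 where
  toFun i := ((⟨i.val / 8, by omega⟩, ⟨i.val / 2 % 4, by omega⟩), ⟨i.val % 2, by omega⟩)
  invFun p := ⟨8 * p.1.1.val + 2 * p.1.2.val + p.2.val, by omega⟩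
  left_inv i := by ext; simp only; omega
  right_inv := by
    rintro ⟨⟨⟨n, hn⟩, ⟨t, ht⟩⟩, ⟨b, hb⟩⟩
    simp only [Prod.mk.injEq, Fin.mk.injEq]
    omega

/-- A real coordinate. -/
def co (v : RuVec) (i : Fin 56) : ℤ :=
  if (eqv i).2 = 0 then (v (eqv i).1).re else (v (eqv i).1).im

/-- The real scalar product. -/
def dot (v w : RuVec) : ℤ := ∑ i, co v i * co w i

theorem co_add (v w : RuVec) (i : Fin 56) : co (v + w) i = co v i + co w i := by
  unfold co; split_ifs <;> simp

theorem co_zero (i : Fin 56) : co 0 i = 0 := by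
  unfold co; split_ifs <;> simp

theorem co_neg (v : RuVec) (i : Fin 56) : co (-v) i = -co v i := by
  unfold co; split_ifs <;> simp

theorem ruNorm_eq (v : RuVec) : ruNorm v = dot v v := by
  unfold dot
  rw [← Equiv.sum_comp eqv.symm]
  simp only [co, Equiv.apply_symm_apply, Fintype.sum_prod_type (α₁ := RuIdx), Fin.sum_univ_two]
  refine sum_congr rfl fun p _ => ?_
  simp [Zsqrtd.norm_def]

theorem dot_comm (v w : RuVec) : dot v w = dot w v := by
  unfold dot; exact sum_congr rfl fun i _ => mul_comm _ _

theorem dot_add_left (u v w : RuVec) : dot (u + v) w = dot u w + dot v w := by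
  unfold dot
  rw [← sum_add_distrib]
  exact sum_congr rfl fun i _ => by rw [co_add, add_mul]

theorem dot_neg_left (v w : RuVec) : dot (-v) w = -dot v w := by
  unfold dot
  rw [← sum_neg_distrib]
  exact sum_congr rfl fun i _ => by rw [co_neg, neg_mul]

theorem dot_zero_left (w : RuVec) : dot 0 w = 0 := by
  unfold dot; simp [co_zero]

/-- A digit to base 4. -/
def digit (n i : ℕ) : ℕ := n / 4 ^ i % 4

/-- A vector with given real coordinates. -/
def ofCo (f : ℕ → ℤ) : RuVec := fun p =>
  ⟨f (8 * p.1.val + 2 * p.2.val), f (8 * p.1.val + 2 * p.2.val + 1)⟩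

theorem co_ofCo (f : ℕ → ℤ) (i : Fin 56) : co (ofCo f) i = f i.val := by
  unfold co ofCo
  split_ifs with h
  · simp only [eqv, Equiv.coe_fn_mk, Fin.ext_iff, Fin.val_zero] at h ⊢
    congr 1; omega
  · simp only [eqv, Equiv.coe_fn_mk, Fin.ext_iff, Fin.val_zero] at h ⊢
    congr 1; omega

/-- A basis digit. -/
def bdig (j i : ℕ) : ℕ := digit (basL.getD j 0) i

/-- A basis vector. -/
def bas (j : ℕ) : RuVec := ofCo fun i => (bdig j i : ℤ)

/-- The vectors divisible by 4. -/
def Four (v : RuVec) : Prop := ∀ i, (4 : ℤ) ∣ co v i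

/-- The span. -/
def span : AddSubgroup RuVec := AddSubgroup.closure {v | (∃ j < 40, v = bas j) ∨ Four v}

theorem bas_mem {j : ℕ} (hj : j < 40) : bas j ∈ span :=
  AddSubgroup.subset_closure (Or.inl ⟨j, hj, rfl⟩)

theorem four_mem {v : RuVec} (h : Four v) : v ∈ span := AddSubgroup.subset_closure (Or.inr h)

/-- The coefficients which do not vanish. -/
def nzc (k : ℕ) : List ℕ := (List.range 40).filter fun j => digit k j != 0

/-- The combination with given coefficients. -/
def comb (k : ℕ) : RuVec := ((nzc k).map fun j => digit k j • bas j).sum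

/-- Its coordinates. -/
def combC (k i : ℕ) : ℕ := ((nzc k).map fun j => digit k j * bdig j i).sum

theorem comb_mem (k : ℕ) : comb k ∈ span := by
  refine list_sum_mem fun v hv => ?_
  obtain ⟨j, hj, rfl⟩ := List.mem_map.1 hv
  exact nsmul_mem (bas_mem (List.mem_range.1 (List.mem_filter.1 hj).1)) _

theorem co_nsmul (n : ℕ) (v : RuVec) (i : Fin 56) : co (n • v) i = n * co v i := by
  induction n with
  | zero => simp [co_zero]
  | succ n ih => rw [succ_nsmul, co_add, ih]; push_cast; ring

theorem co_comb (k : ℕ) (i : Fin 56) : co (comb k) i = (combC k i.val : ℤ) := by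
  unfold comb combC
  induction nzc k with
  | nil => simp [co_zero]
  | cons j l ih =>
    simp only [List.map_cons, List.sum_cons, co_add, co_nsmul, ih]
    simp only [bas, co_ofCo]
    push_cast
    ring

/-- A certificate of membership in the span. -/
def certB (f : ℕ → ℤ) (k : ℕ) : Bool :=
  (List.range 56).all fun i => (f i - (combC k i : ℤ)) % 4 == 0

theorem mem_of_cert {v : RuVec} {f : ℕ → ℤ} {k : ℕ} (hf : ∀ i : Fin 56, co v i = f i.val)
    (h : certB f k = true) : v ∈ span := by
  have e : v = comb k + (v + -comb k) := by abel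
  rw [e]
  refine add_mem (comb_mem k) (four_mem fun i => ?_)
  rw [certB, List.all_eq_true] at h
  have := h i.val (List.mem_range.2 i.isLt)
  rw [beq_iff_eq] at this
  rw [co_add, co_neg, co_comb, hf, ← sub_eq_add_neg]
  exact Int.dvd_of_emod_eq_zero this

/-- The five maps. -/
def opV : Fin 5 → RuVec → RuVec
  | 0, v => gI • v
  | 1, v => ruRj v
  | 2, v => ruRk v
  | 3, v => ruSign v
  | 4, v => ruShift v

theorem opV_add (o : Fin 5) (v w : RuVec) : opV o (v + w) = opV o v + opV o w := by
  fin_cases o <;> funext p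
  · simp [opV, mul_add]
  · obtain ⟨n, t⟩ := p; fin_cases t <;> simp [opV, ruRj, mul_add, add_comm]
  · obtain ⟨n, t⟩ := p; fin_cases t <;> simp [opV, ruRk, mul_add, add_comm]
  · simp only [opV, ruSign, Pi.add_apply]
    split_ifs <;> simp [add_comm]
  · simp [opV, ruShift]

theorem opV_zero (o : Fin 5) : opV o 0 = 0 := by
  have h := opV_add o 0 0
  rw [add_zero] at h
  exact left_eq_add.1 h

theorem opV_neg (o : Fin 5) (v : RuVec) : opV o (-v) = -opV o v := by
  refine eq_neg_of_add_eq_zero_left ?_
  rw [← opV_add, neg_add_cancel, opV_zero]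

theorem four_iff {v : RuVec} : Four v ↔ ∀ p, (4 : ℤ) ∣ (v p).re ∧ (4 : ℤ) ∣ (v p).im := by
  constructor
  · intro h p
    have h0 := h (eqv.symm (p, 0))
    have h1 := h (eqv.symm (p, 1))
    simp [co] at h0 h1
    exact ⟨h0, h1⟩
  · intro h i
    unfold co
    split_ifs
    · exact (h _).1
    · exact (h _).2

theorem four_op (o : Fin 5) {v : RuVec} (hv : Four v) : Four (opV o v) := by
  rw [four_iff] at hv ⊢
  intro p
  fin_cases o
  · simp [opV, gI, hv]
  · obtain ⟨n, t⟩ := p; fin_cases t <;> simp [opV, ruRj, gI, hv]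
  · obtain ⟨n, t⟩ := p; fin_cases t <;> simp [opV, ruRk, gI, hv]
  · simp only [opV, ruSign]
    split_ifs <;> simp [hv]
  · simp [opV, ruShift, hv]

/-- A coordinate, read from a number. -/
def coN (v : RuVec) (i : ℕ) : ℤ := if h : i < 56 then co v ⟨i, h⟩ else 0

theorem co_coN (v : RuVec) (i : Fin 56) : co v i = coN v i.val := by simp [coN]

theorem op_cert : ∀ o : Fin 5, (List.range 40).all (fun j =>
    certB (coN (opV o (bas j))) ((opC.getD o.val []).getD j 0)) = true := by decide +kernel

theorem gen_cert : (List.range 20).all (fun j =>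
    certB (coN (ruTable.getD j 0)) (genC.getD j 0)) = true := by decide +kernel

theorem ruTable_length : ruTable.length = 20 := rfl

theorem op_mem (o : Fin 5) {v : RuVec} (hv : v ∈ span) : opV o v ∈ span := by
  induction hv using AddSubgroup.closure_induction with
  | mem x hx =>
    rcases hx with ⟨j, hj, rfl⟩ | hx
    · have h := op_cert o
      rw [List.all_eq_true] at h
      exact mem_of_cert (co_coN _) (h j (List.mem_range.2 hj))
    · exact four_mem (four_op o hx)
  | zero => rw [opV_zero]; exact zero_mem _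
  | add x y _ _ hx hy => rw [opV_add]; exact add_mem hx hy
  | neg x _ hx => rw [opV_neg]; exact neg_mem hx

theorem table_mem {v : RuVec} (hv : v ∈ ruTable) : v ∈ span := by
  obtain ⟨j, hj, rfl⟩ := List.getElem_of_mem hv
  have h := gen_cert
  rw [List.all_eq_true] at h
  have := h j (List.mem_range.2 (by rw [← ruTable_length]; exact hj))
  rw [List.getD_eq_getElem _ _ hj] at this
  exact mem_of_cert (co_coN _) this

theorem ruLattice_le : ruLattice ≤ span :=
  sInf_le ⟨fun _ => table_mem, fun v hv =>
    ⟨op_mem 0 hv, op_mem 1 hv, op_mem 2 hv, op_mem 3 hv, op_mem 4 hv⟩⟩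

/-- The scalar product of two basis vectors, computed. -/
def bdot (j l : ℕ) : ℕ := ((List.range 56).map fun i => bdig j i * bdig l i).sum

theorem dot_bas (j l : ℕ) : dot (bas j) (bas l) = (bdot j l : ℤ) := by
  simp only [dot, bas, co_ofCo, bdot, Nat.cast_list_sum, List.map_map, Function.comp_def, Nat.cast_mul]
  rw [Fin.sum_univ_eq_sum_range (fun i => (bdig j i : ℤ) * bdig l i)]
  rfl

theorem bdot_ok : (List.range 40).all (fun j => (List.range 40).all fun l =>
    bdot j l % 4 == 0 && (j != l || bdot j l % 8 == 0)) = true := by decide +kernel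

theorem dot_four_left {v : RuVec} (hv : Four v) (w : RuVec) : (4 : ℤ) ∣ dot v w :=
  dvd_sum fun i _ => (hv i).mul_right _

theorem dot_span {v w : RuVec} (hv : v ∈ span) (hw : w ∈ span) : (4 : ℤ) ∣ dot v w := by
  induction hv using AddSubgroup.closure_induction with
  | mem x hx =>
    rcases hx with ⟨j, hj, rfl⟩ | hx
    · induction hw using AddSubgroup.closure_induction with
      | mem y hy =>
        rcases hy with ⟨l, hl, rfl⟩ | hy
        · rw [dot_bas]
          have h := bdot_ok
          simp only [List.all_eq_true, List.mem_range, Bool.and_eq_true, beq_iff_eq] at h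
          exact_mod_cast Nat.dvd_of_mod_eq_zero (h j hj l hl).1
        · rw [dot_comm]; exact dot_four_left hy _
      | zero => rw [dot_comm, dot_zero_left]; exact dvd_zero _
      | add a b _ _ ha hb =>
        rw [dot_comm, dot_add_left, dot_comm a, dot_comm b]; exact dvd_add ha hb
      | neg a _ ha => rw [dot_comm, dot_neg_left, dot_comm a]; exact ha.neg_right
    · exact dot_four_left hx _
  | zero => rw [dot_zero_left]; exact dvd_zero _
  | add a b _ _ ha hb => rw [dot_add_left]; exact dvd_add ha hb
  | neg a _ ha => rw [dot_neg_left]; exact ha.neg_right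

theorem norm_span {v : RuVec} (hv : v ∈ span) : (8 : ℤ) ∣ dot v v := by
  induction hv using AddSubgroup.closure_induction with
  | mem x hx =>
    rcases hx with ⟨j, hj, rfl⟩ | hx
    · rw [dot_bas]
      have h := bdot_ok
      simp only [List.all_eq_true, List.mem_range, Bool.and_eq_true, Bool.or_eq_true, beq_iff_eq,
        bne_iff_ne] at h
      exact_mod_cast Nat.dvd_of_mod_eq_zero ((h j hj j hj).2.resolve_left fun e => e rfl)
    · refine dvd_sum fun i _ => ?_
      obtain ⟨a, ha⟩ := hx i
      exact ⟨2 * a * a, by rw [ha]; ring⟩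
  | zero => rw [dot_zero_left]; exact dvd_zero _
  | add a b ha' hb' ha hb =>
    have e : dot (a + b) (a + b) = dot a a + dot b b + 2 * dot a b := by
      rw [dot_add_left, dot_comm a, dot_comm b, dot_add_left, dot_add_left, dot_comm b a]; ring
    rw [e]
    obtain ⟨c, hc⟩ := dot_span ha' hb'
    exact dvd_add (dvd_add ha hb) ⟨c, by rw [hc]; ring⟩
  | neg a _ ha => rw [dot_neg_left, dot_comm a, dot_neg_left, neg_neg]; exact ha

end Cfsg.Agent.RuLattice
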