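import Cfsg.Agent.Lib.RuLattice.Basic

/-!
# The lattice of the Rudvalis group has no roots

A vector of stored norm below 16 would have at most eight odd coordinates; the three information
sets show that these fill one of seven blocks, and no choice of signs on a block is in the lattice.
-/

set_option autoImplicit false

namespace Cfsg.Agent.RuLattice

open Cfsg.Spor Finset

/-- An information set. -/
def info (j : ℕ) : Finset (Fin 56) := univ.filter fun i => (infoL.getD j []).contains i.val

/-- The parity check through a coordinate outside an information set. -/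
def rowOf (j : ℕ) (c : Fin 56) : ℕ × ℕ × ℕ :=
  ((chkL.getD j []).find? fun r => r.1 == c.val).getD (0, 0, 0)

/-- Its support. -/
def rowSupp (j : ℕ) (c : Fin 56) : Finset (Fin 56) := univ.filter fun i => (rowOf j c).2.1.testBit i.val

/-- Twice the characteristic vector of a check. -/
def rowVec (j : ℕ) (c : Fin 56) : RuVec := ofCo fun i => if (rowOf j c).2.1.testBit i then 2 else 0

/-- The extension of a part of an information set. -/
def ext (j : ℕ) (T : Finset (Fin 56)) : Finset (Fin 56) :=
  T ∪ univ.filter fun c => c ∉ info j ∧ (T.filter fun i => (rowOf j c).2.1.testBit i.val).card % 2 = 1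

/-- The seven blocks. -/
def block (n : Fin 7) : Finset (Fin 56) := univ.filter fun i => i.val / 8 = n.val

/-- Large, or a block. -/
def okSet (E : Finset (Fin 56)) : Prop := 9 ≤ E.card ∨ ∃ n, E = block n

instance (E : Finset (Fin 56)) : Decidable (okSet E) := by unfold okSet; infer_instance

/-- The coordinate in two information sets. -/
def dbl : Fin 56 := ⟨dblPt % 56, Nat.mod_lt _ (by norm_num)⟩

theorem rows_ok : ∀ j : Fin 3, ∀ c : Fin 56, c ∉ info j.val →
    certB (fun i => if (rowOf j.val c).2.1.testBit i then 2 else 0) (rowOf j.val c).2.2 = true ∧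
    c ∈ rowSupp j.val c ∧ rowSupp j.val c ⊆ insert c (info j.val) := by decide +kernel

theorem pair_ok0 : ∀ a ∈ info 0, ∀ b ∈ info 0, okSet (ext 0 {a, b}) := by decide +kernel

theorem pair_ok1 : ∀ a ∈ info 1, ∀ b ∈ info 1, okSet (ext 1 {a, b}) := by decide +kernel

theorem pair_ok2 : ∀ a ∈ info 2, ∀ b ∈ info 2, okSet (ext 2 {a, b}) := by decide +kernel

theorem triple_ok : ∀ a ∈ info 0, ∀ b ∈ info 0, okSet (ext 0 {dbl, a, b}) := by decide +kernel

theorem info_cover : ∀ i : Fin 56, (if i ∈ info 0 then 1 else 0) + (if i ∈ info 1 then 1 else 0)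
    + (if i ∈ info 2 then 1 else 0) = if i = dbl then 2 else 1 := by decide +kernel

theorem info_dbl : dbl ∈ info 0 := by decide +kernel

theorem ext_empty : ∀ j : Fin 3, ext j.val ∅ = ∅ := by decide +kernel

/-- The scalar product of a signed block with a basis vector. -/
def blockDot (n t j : ℕ) : ℤ :=
  ((List.range 8).map fun k => (if t.testBit k then -1 else 1) * (bdig j (8 * n + k) : ℤ)).sum

theorem signs_ok : (List.range 7).all (fun n => (List.range 256).all fun t =>
    (List.range 40).any fun j => blockDot n t j % 4 != 0) = true := by decide +kernel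

theorem cols_ok : (List.range 56).all (fun a => (List.range 56).all fun b => a == b ||
    oddRows.any fun j => bdig j a % 2 != bdig j b % 2) = true := by decide +kernel

theorem oddRows_lt : oddRows.all (fun j => decide (j < 40)) = true := by decide +kernel

/-- The odd coordinates. -/
def oddSet (v : RuVec) : Finset (Fin 56) := univ.filter fun i => ¬ (2 : ℤ) ∣ co v i

theorem sq_pos_of_odd {z : ℤ} (h : ¬ (2 : ℤ) ∣ z) : 1 ≤ z * z := by
  have : z ≠ 0 := by rintro rfl; exact h (dvd_zero _)
  nlinarith [mul_self_pos.2 this]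

theorem card_oddSet_le (v : RuVec) : ((oddSet v).card : ℤ) ≤ dot v v := by
  unfold dot
  calc ((oddSet v).card : ℤ) = ∑ _i ∈ oddSet v, (1 : ℤ) := by simp
    _ ≤ ∑ i ∈ oddSet v, co v i * co v i := sum_le_sum fun i hi => sq_pos_of_odd (mem_filter.1 hi).2
    _ ≤ ∑ i, co v i * co v i :=
      sum_le_sum_of_subset_of_nonneg (subset_univ _) fun i _ _ => mul_self_nonneg _

theorem parity {v : RuVec} (hv : v ∈ span) (j : Fin 3) {c : Fin 56} (hc : c ∉ info j.val) :
    ((oddSet v).filter fun i => i ∈ rowSupp j.val c).card % 2 = 0 := by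
  obtain ⟨hcert, -, -⟩ := rows_ok j c hc
  have hw : rowVec j.val c ∈ span := mem_of_cert (fun i => by rw [rowVec, co_ofCo]) hcert
  have h := dot_span hv hw
  have e : dot v (rowVec j.val c) = 2 * ∑ i ∈ rowSupp j.val c, co v i := by
    rw [dot, mul_sum, rowSupp, sum_filter]
    refine sum_congr rfl fun i _ => ?_
    rw [rowVec, co_ofCo]
    split_ifs <;> ring
  rw [e] at h
  have h2 : (2 : ℤ) ∣ ∑ i ∈ rowSupp j.val c, co v i := by
    obtain ⟨a, ha⟩ := h
    exact ⟨a, by omega⟩
  have hz := (ZMod.intCast_zmod_eq_zero_iff_dvd _ 2).2 h2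
  push_cast at hz
  have e2 : ∀ i, (co v i : ZMod 2) = if i ∈ oddSet v then 1 else 0 := by
    intro i
    split_ifs with hi
    · have h0 : (co v i : ZMod 2) ≠ 0 := fun e0 =>
        (mem_filter.1 hi).2 ((ZMod.intCast_zmod_eq_zero_iff_dvd _ 2).1 e0)
      revert h0
      generalize (co v i : ZMod 2) = z
      revert z
      decide
    · exact (ZMod.intCast_zmod_eq_zero_iff_dvd _ 2).2 (by simpa [oddSet] using hi)
  rw [sum_congr rfl fun i _ => e2 i, sum_boole, ZMod.natCast_eq_zero_iff_even] at hz
  rw [← Nat.even_iff]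
  have : (rowSupp j.val c).filter (fun i => i ∈ oddSet v) = (oddSet v).filter fun i => i ∈ rowSupp j.val c := by
    ext i; simp [and_comm]
  rwa [← this]

theorem oddSet_eq_ext {v : RuVec} (hv : v ∈ span) (j : Fin 3) :
    oddSet v = ext j.val (oddSet v ∩ info j.val) := by
  ext c
  simp only [ext, mem_union, mem_inter, mem_filter, mem_univ, true_and]
  by_cases hc : c ∈ info j.val
  · simp [hc]
  · have hp := parity hv j hc
    obtain ⟨-, hcs, hsub⟩ := rows_ok j c hc
    set A := (oddSet v ∩ info j.val).filter fun i => (rowOf j.val c).2.1.testBit i.val with hA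
    have hsplit : (oddSet v).filter (fun i => i ∈ rowSupp j.val c)
        = if c ∈ oddSet v then insert c A else A := by
      ext i
      have hi : (rowOf j.val c).2.1.testBit i.val = true → i = c ∨ i ∈ info j.val := fun h =>
        mem_insert.1 (hsub (by simp [rowSupp, h]))
      have hc' : (rowOf j.val c).2.1.testBit c.val = true := by simpa [rowSupp] using hcs
      split_ifs with ho
      · simp only [hA, rowSupp, mem_filter, mem_univ, true_and, mem_insert, mem_inter]
        constructor
        · rintro ⟨h1, h2⟩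
          rcases hi h2 with h | h
          · exact Or.inl h
          · exact Or.inr ⟨⟨h1, h⟩, h2⟩
        · rintro (rfl | ⟨⟨h1, -⟩, h2⟩)
          · exact ⟨ho, hc'⟩
          · exact ⟨h1, h2⟩
      · simp only [hA, rowSupp, mem_filter, mem_univ, true_and, mem_inter]
        constructor
        · rintro ⟨h1, h2⟩
          exact ⟨⟨h1, (hi h2).resolve_left fun e => ho (e ▸ h1)⟩, h2⟩
        · rintro ⟨⟨h1, -⟩, h2⟩; exact ⟨h1, h2⟩
    rw [hsplit] at hp
    simp only [hc, and_false, not_false_eq_true, true_and, false_or]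
    by_cases ho : c ∈ oddSet v
    · rw [if_pos ho, card_insert_of_notMem (by simp [hA, hc])] at hp
      exact iff_of_true ho (by omega)
    · rw [if_neg ho] at hp
      exact iff_of_false ho (by omega)

theorem oddSet_block {v : RuVec} (hv : v ∈ span) (hO : (oddSet v).Nonempty) (h8 : (oddSet v).card ≤ 8) :
    ∃ n, oddSet v = block n := by
  classical
  have key : ∀ j : Fin 3, oddSet v ∩ info j.val ≠ ∅ := fun j h => by
    have := oddSet_eq_ext hv j
    rw [h, ext_empty] at this
    rw [this] at hO
    exact not_nonempty_empty hO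
  have pairs : ∀ j : Fin 3, (∀ a ∈ info j.val, ∀ b ∈ info j.val, okSet (ext j.val {a, b})) →
      (oddSet v ∩ info j.val).card ≤ 2 → ∃ n, oddSet v = block n := by
    intro j hj hc
    obtain ⟨a, ha⟩ := nonempty_iff_ne_empty.2 (key j)
    obtain ⟨b, hb, e⟩ : ∃ b ∈ oddSet v ∩ info j.val, oddSet v ∩ info j.val = {a, b} := by
      rcases Nat.lt_or_ge (oddSet v ∩ info j.val).card 2 with h | h
      · refine ⟨a, ha, ?_⟩
        rw [pair_eq_singleton]
        exact eq_singleton_iff_unique_mem.2 ⟨ha, fun x hx => card_le_one.1 (by omega) x hx a ha⟩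
      · obtain ⟨b, hb, hba⟩ := exists_mem_ne (s := oddSet v ∩ info j.val) (by omega) a
        refine ⟨b, hb, (eq_of_subset_of_card_le (insert_subset ha (singleton_subset_iff.2 hb)) ?_).symm⟩
        rw [card_pair hba.symm]; omega
    have h := hj a (mem_inter.1 ha).2 b (mem_inter.1 hb).2
    rw [← e, ← oddSet_eq_ext hv j] at h
    exact h.resolve_left (by omega)
  by_cases h0 : (oddSet v ∩ info 0).card ≤ 2
  · exact pairs 0 pair_ok0 h0
  by_cases h1 : (oddSet v ∩ info 1).card ≤ 2
  · exact pairs 1 pair_ok1 h1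
  by_cases h2 : (oddSet v ∩ info 2).card ≤ 2
  · exact pairs 2 pair_ok2 h2
  -- all three parts have three points, so the double coordinate is odd
  have hsum : (oddSet v ∩ info 0).card + (oddSet v ∩ info 1).card + (oddSet v ∩ info 2).card
      = (oddSet v).card + if dbl ∈ oddSet v then 1 else 0 := by
    have e : ∀ A : Finset (Fin 56), (oddSet v ∩ A).card = ∑ i ∈ oddSet v, if i ∈ A then 1 else 0 := by
      intro A
      rw [sum_boole, Nat.cast_id, filter_mem_eq_inter]
    rw [e, e, e, ← sum_add_distrib, ← sum_add_distrib, sum_congr rfl fun i _ => info_cover i]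
    have : ∀ i : Fin 56, (if i = dbl then 2 else 1) = 1 + if i = dbl then (1 : ℕ) else 0 := fun i => by
      split_ifs <;> rfl
    rw [sum_congr rfl fun i _ => this i, sum_add_distrib, sum_const, smul_eq_mul, mul_one, sum_ite_eq']
  have hd : dbl ∈ oddSet v := by
    by_contra hd
    rw [if_neg hd] at hsum
    omega
  rw [if_pos hd] at hsum
  have hA : (oddSet v ∩ info 0).card = 3 := by omega
  have hdA : dbl ∈ oddSet v ∩ info 0 := mem_inter.2 ⟨hd, info_dbl⟩
  obtain ⟨a, b, hab, e⟩ := card_eq_two.1 (show ((oddSet v ∩ info 0).erase dbl).card = 2 by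
    rw [card_erase_of_mem hdA, hA])
  have e2 : oddSet v ∩ info 0 = {dbl, a, b} := by rw [← insert_erase hdA, e]
  have hai : a ∈ info 0 := (mem_inter.1 (by rw [e2]; simp : a ∈ oddSet v ∩ info 0)).2
  have hbi : b ∈ info 0 := (mem_inter.1 (by rw [e2]; simp : b ∈ oddSet v ∩ info 0)).2
  have h := triple_ok a hai b hbi
  have e3 := oddSet_eq_ext hv 0
  simp only [Fin.val_zero] at e3
  rw [← e2, ← e3] at h
  exact h.resolve_left (by omega)

theorem no_block {v : RuVec} (hv : v ∈ span) {n : Fin 7} (hO : oddSet v = block n) : dot v v ≠ 8 := by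
  intro h8
  have hcard : (block n).card = 8 := (show ∀ m : Fin 7, (block m).card = 8 by decide +kernel) n
  have hsq : ∀ i, co v i * co v i = if i ∈ block n then 1 else 0 := by
    have hle : ∀ i ∈ (univ : Finset (Fin 56)), (if i ∈ block n then (1 : ℤ) else 0) ≤ co v i * co v i := by
      intro i _
      split_ifs with hi
      · rw [← hO] at hi; exact sq_pos_of_odd (mem_filter.1 hi).2
      · exact mul_self_nonneg _
    have heq : ∑ i, (if i ∈ block n then (1 : ℤ) else 0) = ∑ i, co v i * co v i := by
      rw [sum_boole, filter_mem_eq_inter, univ_inter, hcard, ← dot, h8]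
      norm_num
    intro i
    exact ((sum_eq_sum_iff_of_le hle).1 heq i (mem_univ i)).symm
  set idxB : Fin 8 → Fin 56 := fun k => ⟨8 * n.val + k.val, by omega⟩ with hidx
  have hinj : Function.Injective idxB := fun k l h => by
    simp only [hidx, Fin.ext_iff] at h; exact Fin.ext (by omega)
  have himg : univ.image idxB = block n := by
    ext i
    simp only [mem_image, mem_univ, true_and, block, mem_filter, hidx]
    constructor
    · rintro ⟨k, rfl⟩; simp only; omega
    · intro hi; exact ⟨⟨i.val % 8, by omega⟩, Fin.ext (by simp only; omega)⟩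
  have hpm : ∀ k : Fin 8, co v (idxB k) = 1 ∨ co v (idxB k) = -1 := fun k => by
    have := hsq (idxB k)
    rw [if_pos (by rw [← himg]; exact mem_image_of_mem _ (mem_univ k))] at this
    exact mul_self_eq_one_iff.1 this
  obtain ⟨t, ht, hbit⟩ : ∃ t < 256, ∀ k : Fin 8, t.testBit k.val = decide (co v (idxB k) = -1) := by
    have : ∀ f : Fin 8 → Bool, ∃ t < 256, ∀ k : Fin 8, t.testBit k.val = f k := fun f => by
      refine ⟨(BitVec.ofFnLE f).toNat, (BitVec.ofFnLE f).isLt, fun k => ?_⟩
      rw [← BitVec.getLsbD, BitVec.getLsbD_ofFnLE]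
      simp
    exact this _
  have h := signs_ok
  simp only [List.all_eq_true, List.any_eq_true, List.mem_range, bne_iff_ne] at h
  obtain ⟨j, hj, hne⟩ := h n.val n.isLt t ht
  refine hne (Int.emod_eq_zero_of_dvd ?_)
  have hd := dot_span hv (bas_mem hj)
  have e : dot v (bas j) = blockDot n.val t j := by
    unfold dot
    rw [← sum_subset (subset_univ (block n))]
    · have g : ∀ k : Fin 8, co v (idxB k) * co (bas j) (idxB k)
          = (if t.testBit k.val then -1 else 1) * (bdig j (8 * n.val + k.val) : ℤ) := fun k => by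
        rw [hbit k]
        rcases hpm k with h' | h' <;> rw [h'] <;> simp [bas, co_ofCo, hidx]
      rw [← himg, sum_image fun k _ l _ h => hinj h, sum_congr rfl fun k _ => g k,
        Fin.sum_univ_eq_sum_range (fun k => (if t.testBit k then (-1 : ℤ) else 1) * (bdig j (8 * n.val + k) : ℤ))]
      rfl
    · intro i _ hi
      have h0 := hsq i
      rw [if_neg hi] at h0
      rw [mul_self_eq_zero.1 h0, zero_mul]
  rwa [e] at hd

theorem no_even {v : RuVec} (hv : v ∈ span) (hO : oddSet v = ∅) : dot v v ≠ 8 := by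
  intro h8
  have hev : ∀ i, (2 : ℤ) ∣ co v i := fun i => by
    by_contra h
    have : i ∈ oddSet v := mem_filter.2 ⟨mem_univ _, h⟩
    rw [hO] at this
    exact Finset.notMem_empty i this
  have hbd : ∀ i, co v i * co v i ≤ 8 := fun i => by
    rw [← h8, dot]
    exact single_le_sum (fun i _ => mul_self_nonneg (co v i)) (mem_univ i)
  have hval : ∀ i, co v i * co v i = if co v i = 0 then 0 else 4 := by
    intro i
    obtain ⟨a, ha⟩ := hev i
    have := hbd i
    rw [ha] at this ⊢
    have h1 : -1 ≤ a := by nlinarith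
    have h2 : a ≤ 1 := by nlinarith
    interval_cases a <;> norm_num
  have hS : (univ.filter fun i => co v i ≠ 0).card = 2 := by
    have : ∑ i, (if co v i ≠ 0 then (4 : ℤ) else 0) = 8 := by
      rw [← h8, dot]
      exact sum_congr rfl fun i _ => by rw [hval i]; split_ifs <;> simp_all
    rw [← sum_filter, sum_const, nsmul_eq_mul] at this
    omega
  obtain ⟨a, b, hab, hS'⟩ := card_eq_two.1 hS
  have h := cols_ok
  simp only [List.all_eq_true, List.any_eq_true, List.mem_range, Bool.or_eq_true, beq_iff_eq,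
    bne_iff_ne] at h
  obtain ⟨j, hj, hne⟩ := (h a.val a.isLt b.val b.isLt).resolve_left fun e => hab (Fin.ext e)
  have hj40 : j < 40 := by
    have := oddRows_lt
    simp only [List.all_eq_true, decide_eq_true_eq] at this
    exact this j hj
  have hd := dot_span hv (bas_mem hj40)
  have e : dot v (bas j) = co v a * bdig j a.val + co v b * bdig j b.val := by
    unfold dot
    rw [← sum_subset (subset_univ (univ.filter fun i => co v i ≠ 0)) fun i _ hi => by
      simp only [mem_filter, mem_univ, true_and, not_not] at hi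
      rw [hi, zero_mul]]
    rw [hS', sum_pair hab, bas, co_ofCo, co_ofCo]
  have ha : co v a = 2 ∨ co v a = -2 := by
    have h1 : co v a ≠ 0 := (mem_filter.1 (show a ∈ univ.filter fun i => co v i ≠ 0 by rw [hS']; simp)).2
    have h2 := hval a
    rw [if_neg h1] at h2
    exact mul_self_eq_mul_self_iff.1 (h2.trans (by norm_num : (4 : ℤ) = 2 * 2))
  have hb : co v b = 2 ∨ co v b = -2 := by
    have h1 : co v b ≠ 0 := (mem_filter.1 (show b ∈ univ.filter fun i => co v i ≠ 0 by rw [hS']; simp)).2
    have h2 := hval b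
    rw [if_neg h1] at h2
    exact mul_self_eq_mul_self_iff.1 (h2.trans (by norm_num : (4 : ℤ) = 2 * 2))
  rw [e] at hd
  rcases ha with ha | ha <;> rcases hb with hb | hb <;> rw [ha, hb] at hd <;> omega

theorem norm_ne_eight {v : RuVec} (hv : v ∈ span) : dot v v ≠ 8 := by
  intro h8
  rcases (oddSet v).eq_empty_or_nonempty with h | h
  · exact no_even hv h h8
  · have hle := card_oddSet_le v
    rw [h8] at hle
    obtain ⟨n, hn⟩ := oddSet_block hv h (by exact_mod_cast hle)
    exact no_block hv hn h8

theorem eq_zero_of_dot {v : RuVec} (h : dot v v = 0) : v = 0 := by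
  have hz := (sum_eq_zero_iff_of_nonneg fun i _ => mul_self_nonneg (co v i)).1 h
  funext p
  have h0 := mul_self_eq_zero.1 (hz (eqv.symm (p, 0)) (mem_univ _))
  have h1 := mul_self_eq_zero.1 (hz (eqv.symm (p, 1)) (mem_univ _))
  simp [co] at h0 h1
  exact Zsqrtd.ext h0 h1

theorem ru_lattice_facts :
    (∀ x ∈ ruLattice, (8 : ℤ) ∣ ruNorm x) ∧ (∀ x ∈ ruLattice, ruNorm x ≠ 8) ∧
      (∀ x ∈ ruLattice, x ≠ 0 → 16 ≤ ruNorm x) ∧ ∃ x ∈ ruLattice, ruNorm x = 16 := by
  have h8 : ∀ x ∈ ruLattice, (8 : ℤ) ∣ ruNorm x := fun x hx => by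
    rw [ruNorm_eq]; exact norm_span (ruLattice_le hx)
  have hne : ∀ x ∈ ruLattice, ruNorm x ≠ 8 := fun x hx => by
    rw [ruNorm_eq]; exact norm_ne_eight (ruLattice_le hx)
  refine ⟨h8, hne, fun x hx h0 => ?_, ruTable.getD 0 0, ?_, by decide +kernel⟩
  · have h1 := hne x hx
    obtain ⟨a, ha⟩ := h8 x hx
    have h2 : ruNorm x ≠ 0 := fun e => h0 (eq_zero_of_dot (by rw [← ruNorm_eq]; exact e))
    have h3 : 0 ≤ ruNorm x := by
      rw [ruNorm_eq]; exact sum_nonneg fun i _ => mul_self_nonneg _
    omega
  · refine AddSubgroup.mem_sInf.2 fun L hL => hL.1 _ ?_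
    rw [List.getD_eq_getElem _ _ (by rw [ruTable_length]; norm_num : 0 < ruTable.length)]
    exact List.getElem_mem _

end Cfsg.Agent.RuLattice
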